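import Groth.Agent.L03.Lattice
import Groth.Agent.L21.ExtLattice.Basic
import Mathlib.Algebra.Category.ModuleCat.Ext.HasExt
import Mathlib.Algebra.Category.ModuleCat.Projective
import Mathlib.Algebra.Homology.DerivedCategory.Ext.ExactSequences
import Mathlib.Algebra.Homology.DerivedCategory.Ext.Linear
import Mathlib.RingTheory.Noetherian.Basic

/-!
Duality of finite torsion-free modules with respect to a module `W` with `Ext^{≥ 1}(-, W) = 0` on them.
-/

set_option autoImplicit false
universe u

open CategoryTheory Abelian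

namespace Groth.L21.TFDual

variable {A : Type u} [CommRing A]

/-- The hypothesis: no higher `Ext` of finite torsion-free modules into `W`. -/
def Vanishes (A : Type u) [CommRing A] (W : Type u) [AddCommGroup W] [Module A W] : Prop :=
  ∀ (X : Type u) [AddCommGroup X] [Module A X] [Module.Finite A X] [Module.IsTorsionFree A X] (i : ℕ),
    Subsingleton (Ext (ModuleCat.of A X) (ModuleCat.of A W) (i + 1))

theorem subsingleton_ext_free {F : Type u} [AddCommGroup F] [Module A F] [Module.Free A F]
    (N : ModuleCat.{u} A) (i : ℕ) : Subsingleton (Ext (ModuleCat.of A F) N (i + 1)) := by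
  haveI : Projective (ModuleCat.of A F) := ModuleCat.projective_of_free (Module.Free.chooseBasis A F)
  exact subsingleton_of_forall_eq 0 fun x => Ext.eq_zero_of_projective x

/-- Vanishing on torsion-free modules follows from vanishing in degree `≥ 2`. -/
theorem vanishes_of_two_le [IsDomain A] [IsNoetherianRing A] (W : Type u) [AddCommGroup W] [Module A W]
    (h : ∀ (X : Type u) [AddCommGroup X] [Module A X] [Module.Finite A X] (i : ℕ),
      Subsingleton (Ext (ModuleCat.of A X) (ModuleCat.of A W) (i + 2))) : Vanishes A W := by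
  intro X _ _ _ _ i
  obtain ⟨n, f, g, c, hc, hgf, hfg⟩ := Groth.L03.Lattice.exists_free_comp (R := A) X
  have hf : Function.Injective f := Groth.L03.Lattice.injective_of_comp f g hc hgf
  let S := ShortComplex.mk (ModuleCat.ofHom f) (ModuleCat.ofHom (LinearMap.range f).mkQ)
    (by ext x; exact (Submodule.Quotient.mk_eq_zero _).2 ⟨x, rfl⟩)
  have hS : S.ShortExact :=
    { exact := by
        rw [ShortComplex.moduleCat_exact_iff]
        intro y hy
        exact (Submodule.Quotient.mk_eq_zero _).1 hy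
      mono_f := (ModuleCat.mono_iff_injective _).2 hf
      epi_g := (ModuleCat.epi_iff_surjective _).2 (Submodule.mkQ_surjective _) }
  refine subsingleton_of_forall_eq 0 fun x => ?_
  haveI := h ((Fin n → A) ⧸ LinearMap.range f) i
  obtain ⟨y, rfl⟩ := Ext.contravariant_sequence_exact₁ hS _ x (show 1 + (i + 1) = i + 2 by omega)
    (Subsingleton.elim (α := Ext (ModuleCat.of A ((Fin n → A) ⧸ LinearMap.range f)) (ModuleCat.of A W) (i + 2)) _ _)
  haveI := subsingleton_ext_free (F := Fin n → A) (ModuleCat.of A W) i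
  rw [Subsingleton.elim (α := Ext (ModuleCat.of A (Fin n → A)) (ModuleCat.of A W) (i + 1)) y 0,
    Ext.comp_zero]

theorem ofHom_sum {M N : Type u} [AddCommGroup M] [AddCommGroup N] [Module A M] [Module A N]
    {ι : Type*} (s : Finset ι) (g : ι → M →ₗ[A] N) :
    ModuleCat.ofHom (∑ j ∈ s, g j) = ∑ j ∈ s, ModuleCat.ofHom (g j) := by
  classical
  induction s using Finset.induction_on with
  | empty => rfl
  | @insert a s ha ih =>
    rw [Finset.sum_insert ha, Finset.sum_insert ha, ← ih]
    rfl

theorem subsingleton_ext_dual_free {W : Type u} [AddCommGroup W] [Module A W] {F : Type u}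
    [AddCommGroup F] [Module A F] [Module.Free A F] [Module.Finite A F] (X : Type u) [AddCommGroup X]
    [Module A X] (i : ℕ) [Subsingleton (Ext (ModuleCat.of A X) (ModuleCat.of A W) i)] :
    Subsingleton (Ext (ModuleCat.of A X) (ModuleCat.of A (F →ₗ[A] W)) i) := by
  classical
  let b := Module.Free.chooseBasis A F
  haveI := Fintype.ofFinite (Module.Free.ChooseBasisIndex A F)
  let p : Module.Free.ChooseBasisIndex A F → (F →ₗ[A] W) →ₗ[A] W := fun j => LinearMap.applyₗ (b j)
  let q : Module.Free.ChooseBasisIndex A F → W →ₗ[A] (F →ₗ[A] W) := fun j =>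
    (LinearMap.smulRightₗ (b.coord j))
  have hid : (LinearMap.id : (F →ₗ[A] W) →ₗ[A] (F →ₗ[A] W)) = ∑ j, (q j).comp (p j) := by
    refine LinearMap.ext fun φ => b.ext fun l => ?_
    simp [p, q, Finsupp.single_apply]
  refine subsingleton_of_forall_eq 0 fun x => ?_
  rw [← Ext.comp_mk₀_id x,
    show 𝟙 (ModuleCat.of A (F →ₗ[A] W)) = ModuleCat.ofHom LinearMap.id from rfl, hid, ofHom_sum,
    Ext.mk₀_sum, Ext.comp_sum]
  refine Finset.sum_eq_zero fun j _ => ?_
  rw [ModuleCat.ofHom_comp, ← Ext.mk₀_comp_mk₀, ← Ext.comp_assoc_of_second_deg_zero,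
    Subsingleton.elim (α := Ext (ModuleCat.of A X) (ModuleCat.of A W) i)
      (x.comp (Ext.mk₀ (ModuleCat.ofHom (p j))) (add_zero i)) 0, Ext.zero_comp]

theorem exists_ext_one_of_injective
    (S : ShortComplex (ModuleCat.{u} A))
    (hS : S.ShortExact) (N : ModuleCat.{u} A) [Subsingleton (Ext N S.X₂ 1)] :
    ∃ δ : (↥N →ₗ[A] ↥S.X₃) →ₗ[A] Ext N S.X₁ 1, Function.Surjective δ ∧
      ∀ φ, δ φ = 0 ↔ ∃ g : ↥N →ₗ[A] ↥S.X₂, S.g.hom.comp g = φ := by
  let e : Ext N S.X₃ 0 ≃ₗ[A] (↥N →ₗ[A] ↥S.X₃) := Ext.linearEquiv₀.trans ModuleCat.homLinearEquiv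
  let p : Ext N S.X₃ 0 →ₗ[A] Ext N S.X₁ 1 := hS.extClass.postcompOfLinear A N (zero_add 1)
  refine ⟨p ∘ₗ e.symm.toLinearMap, ?_, fun φ => ⟨fun h => ?_, ?_⟩⟩
  · intro x
    obtain ⟨y, hy⟩ := Ext.covariant_sequence_exact₁ _ hS x (Subsingleton.elim _ _) (zero_add 1)
    exact ⟨e y, (congrArg p (e.symm_apply_apply y)).trans hy⟩
  · obtain ⟨x, hx⟩ := Ext.covariant_sequence_exact₃ _ hS (Ext.mk₀ (ModuleCat.ofHom φ)) (zero_add 1) h
    obtain ⟨g, rfl⟩ := Ext.addEquiv₀.symm.surjective x
    rw [Ext.addEquiv₀_symm_apply, Ext.mk₀_comp_mk₀] at hx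
    exact ⟨g.hom, congrArg ModuleCat.Hom.hom ((Ext.mk₀_bijective _ _).1 hx)⟩
  · rintro ⟨g, rfl⟩
    change (Ext.mk₀ (ModuleCat.ofHom g ≫ S.g)).comp hS.extClass (zero_add 1) = 0
    rw [← Ext.mk₀_comp_mk₀, Ext.comp_assoc_of_second_deg_zero, hS.comp_extClass, Ext.comp_zero]

/-- The dual of a presentation. -/
noncomputable def dualComplex {F X : Type u} [AddCommGroup F] [Module A F] [AddCommGroup X] [Module A X]
    (W : Type u) [AddCommGroup W] [Module A W] (f : F →ₗ[A] X) : ShortComplex (ModuleCat.{u} A) :=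
  ShortComplex.mk (ModuleCat.ofHom (LinearMap.lcomp A W f))
    (ModuleCat.ofHom (LinearMap.lcomp A W (LinearMap.ker f).subtype))
    (by
      ext φ ⟨x, hx⟩
      change φ (f x) = 0
      rw [LinearMap.mem_ker.1 hx, map_zero])

theorem dualComplex_shortExact {W : Type u} [AddCommGroup W] [Module A W] (hW : Vanishes A W)
    {F X : Type u} [AddCommGroup F] [Module A F] [Module.Free A F] [AddCommGroup X] [Module A X]
    [Module.Finite A X] [Module.IsTorsionFree A X] (f : F →ₗ[A] X) (hf : Function.Surjective f) :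
    (dualComplex W f).ShortExact := by
  refine
    { exact := ?_
      mono_f := (ModuleCat.mono_iff_injective _).2 fun φ ψ h => LinearMap.ext fun x => ?_
      epi_g := (ModuleCat.epi_iff_surjective _).2 fun φ => ?_ }
  · rw [ShortComplex.moduleCat_exact_iff]
    intro (φ : F →ₗ[A] W) hφ
    have hle : LinearMap.ker f ≤ LinearMap.ker φ := fun x hx => LinearMap.congr_fun hφ ⟨x, hx⟩
    refine ⟨(Submodule.liftQ (LinearMap.ker f) φ hle).comp
      (LinearMap.quotKerEquivOfSurjective f hf).symm.toLinearMap, LinearMap.ext fun y => ?_⟩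
    · change Submodule.liftQ _ φ hle ((LinearMap.quotKerEquivOfSurjective f hf).symm (f y)) = φ y
      rw [show (LinearMap.quotKerEquivOfSurjective f hf).symm (f y) = Submodule.Quotient.mk y from
        (LinearEquiv.symm_apply_eq _).2 rfl, Submodule.liftQ_apply]
  · obtain ⟨y, rfl⟩ := hf x
    exact LinearMap.congr_fun h y
  · obtain ⟨δ, -, hδ⟩ := Groth.L21.ExtLattice.exists_ext_one_of_presentation f hf
      (Module.Free.chooseBasis A F) W
    haveI := hW X 0
    obtain ⟨g, hg⟩ := (hδ φ).1 (Subsingleton.elim (α := Ext (ModuleCat.of A X) (ModuleCat.of A W) 1) _ _)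
    exact ⟨g, hg⟩

/-- `Ext^i(X, N^∨) ≅ Ext^i(N, X^∨)` for finite torsion-free `X`, `N`. -/
theorem nonempty_dualExtEquiv [IsDomain A] [IsNoetherianRing A] {W : Type u} [AddCommGroup W] [Module A W]
    (hW : Vanishes A W) (N : Type u) [AddCommGroup N] [Module A N] [Module.Finite A N]
    [Module.IsTorsionFree A N] : ∀ (i : ℕ) (X : Type u) [AddCommGroup X] [Module A X] [Module.Finite A X]
      [Module.IsTorsionFree A X],
      Nonempty (Ext (ModuleCat.of A X) (ModuleCat.of A (N →ₗ[A] W)) i ≃+
        Ext (ModuleCat.of A N) (ModuleCat.of A (X →ₗ[A] W)) i) := by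
  intro i
  induction i with
  | zero =>
    intro X _ _ _ _
    exact ⟨((Ext.linearEquiv₀ (R := A)).trans (ModuleCat.homLinearEquiv.trans
      ((LinearMap.lflip (R₀ := A)).trans
        ((Ext.linearEquiv₀ (R := A)).trans ModuleCat.homLinearEquiv).symm))).toAddEquiv⟩
  | succ i ih =>
    intro X _ _ _ _
    obtain ⟨r, f, hf⟩ := Module.Finite.exists_fin' A X
    have hD := dualComplex_shortExact hW f hf
    have hS := LinearMap.shortExact_shortComplexKer hf
    cases i with
    | zero =>
      obtain ⟨δ₁, hδ₁, hδ₁'⟩ := Groth.L21.ExtLattice.exists_ext_one_of_presentation f hf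
        (Module.Free.chooseBasis A (Fin r → A)) (N →ₗ[A] W)
      haveI := hW N 0
      haveI : Subsingleton (Ext (ModuleCat.of A N) (dualComplex W f).X₂ 1) :=
        subsingleton_ext_dual_free (F := Fin r → A) N 1
      obtain ⟨δ₂, hδ₂, hδ₂'⟩ := exists_ext_one_of_injective
        (dualComplex W f) hD (ModuleCat.of A N)
      let e : (↥(LinearMap.ker f) →ₗ[A] (N →ₗ[A] W)) ≃ₗ[A] (N →ₗ[A] (↥(LinearMap.ker f) →ₗ[A] W)) :=
        LinearMap.lflip
      have hker : (LinearMap.ker δ₁).map e.toLinearMap = LinearMap.ker δ₂ := by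
        ext ψ
        rw [Submodule.mem_map_equiv, LinearMap.mem_ker]
        change _ ↔ δ₂ ψ = 0
        rw [hδ₁', hδ₂']
        constructor
        · rintro ⟨g, hg⟩
          refine ⟨g.flip, LinearMap.ext fun y => LinearMap.ext fun x => ?_⟩
          exact LinearMap.congr_fun (LinearMap.congr_fun hg x) y
        · rintro ⟨g, hg⟩
          refine ⟨LinearMap.flip (show N →ₗ[A] ((Fin r → A) →ₗ[A] W) from g),
            LinearMap.ext fun x => LinearMap.ext fun y => ?_⟩
          exact LinearMap.congr_fun (LinearMap.congr_fun hg y) x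
      exact ⟨(((δ₁.quotKerEquivOfSurjective hδ₁).symm.trans
        (Submodule.Quotient.equiv _ _ e hker)).trans (δ₂.quotKerEquivOfSurjective hδ₂)).toAddEquiv⟩
    | succ i =>
      obtain ⟨φ⟩ := ih ↥(LinearMap.ker f)
      have h₁ : Function.Bijective
          (hS.extClass.precomp (ModuleCat.of A (N →ₗ[A] W)) (show 1 + (i + 1) = i + 1 + 1 by omega)) := by
        refine ⟨(injective_iff_map_eq_zero _).2 fun x hx => ?_, fun y => ?_⟩
        · obtain ⟨z, rfl⟩ := Ext.contravariant_sequence_exact₁ hS _ x (show 1 + (i + 1) = i + 1 + 1 by omega) hx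
          haveI := subsingleton_ext_free (F := Fin r → A) (ModuleCat.of A (N →ₗ[A] W)) i
          rw [Subsingleton.elim (α := Ext (ModuleCat.of A (Fin r → A)) (ModuleCat.of A (N →ₗ[A] W)) (i + 1)) z 0,
            Ext.comp_zero]
        · exact Ext.contravariant_sequence_exact₃ hS _ y (by
            haveI := subsingleton_ext_free (F := Fin r → A) (ModuleCat.of A (N →ₗ[A] W)) (i + 1)
            exact Subsingleton.elim (α := Ext (ModuleCat.of A (Fin r → A)) (ModuleCat.of A (N →ₗ[A] W)) (i + 1 + 1)) _ _) (show 1 + (i + 1) = i + 1 + 1 by omega)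
      have h₂ : Function.Bijective
          (hD.extClass.postcomp (ModuleCat.of A N) (rfl : i + 1 + 1 = i + 1 + 1)) := by
        refine ⟨(injective_iff_map_eq_zero _).2 fun x hx => ?_, fun y => ?_⟩
        · obtain ⟨z, rfl⟩ := Ext.covariant_sequence_exact₃ _ hD x (rfl : i + 1 + 1 = i + 1 + 1) hx
          haveI := hW N i
          haveI : Subsingleton (Ext (ModuleCat.of A N) (dualComplex W f).X₂ (i + 1)) :=
            subsingleton_ext_dual_free (F := Fin r → A) N (i + 1)
          rw [Subsingleton.elim z 0, Ext.zero_comp]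
        · exact Ext.covariant_sequence_exact₁ _ hD y (by
            haveI := hW N (i + 1)
            haveI : Subsingleton (Ext (ModuleCat.of A N) (dualComplex W f).X₂ (i + 1 + 1)) :=
              subsingleton_ext_dual_free (F := Fin r → A) N (i + 1 + 1)
            exact Subsingleton.elim _ _) (rfl : i + 1 + 1 = i + 1 + 1)
      exact ⟨((AddEquiv.ofBijective _ h₁).symm.trans φ).trans (AddEquiv.ofBijective _ h₂)⟩

end Groth.L21.TFDual
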