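import Groth.Prelude.Def_CAlg
import Groth.Agent.L21.TFDual.Basic
import Groth.Agent.L29.Dual.Gorenstein
import Mathlib.CategoryTheory.Abelian.Injective.Dimension
import Mathlib.RingTheory.Ideal.AssociatedPrime.Basic
import Mathlib.RingTheory.Nakayama
import Mathlib.RingTheory.SimpleModule.Basic

/-!
Canonical modules of one-dimensional Noetherian local domains: vanishing, `End ω = O`, biduality.
-/

set_option autoImplicit false
universe u

open CategoryTheory Abelian IsLocalRing

namespace Groth.L21.TFDual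

variable {A : Type u} [CommRing A] [IsDomain A] [IsNoetherianRing A]

theorem vanishes_of_injdim (W : Type u) [AddCommGroup W] [Module A W]
    (h : HasInjectiveDimensionLT (ModuleCat.of A W) 2) : Vanishes A W :=
  vanishes_of_two_le W fun X _ _ _ i =>
    haveI := h
    HasInjectiveDimensionLT.subsingleton (ModuleCat.of A W) 2 (i + 2) (by omega) _

theorem isTorsionFree_hom {W X : Type u} [AddCommGroup W] [Module A W] [Module.IsTorsionFree A W]
    [AddCommGroup X] [Module A X] : Module.IsTorsionFree A (X →ₗ[A] W) :=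
  Module.isTorsionFree_iff_smul_eq_zero.2 fun a φ h => by
    by_cases ha : a = 0
    · exact Or.inl ha
    exact Or.inr (LinearMap.ext fun x =>
      (Module.isTorsionFree_iff_smul_eq_zero.1 ‹Module.IsTorsionFree A W› a (φ x)
        (LinearMap.congr_fun h x)).resolve_left ha)

section

variable [IsLocalRing A] [Ring.KrullDimLE 1 A]

theorem eq_maximalIdeal_of_mem {p : Ideal A} (hp : p.IsPrime) {x : A} (hx : x ≠ 0) (hxp : x ∈ p) :
    p = maximalIdeal A :=
  eq_maximalIdeal (hp.isMaximal_of_ne_bot fun h => hx ((Submodule.mem_bot A).1 (h ▸ hxp)))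

theorem exists_socle (W : Type u) [AddCommGroup W] [Module A W] [Module.Finite A W] [Nontrivial W]
    {x : A} (hx : x ≠ 0) (hxm : x ∈ maximalIdeal A) :
    ∃ y : W, y ∉ LinearMap.range (LinearMap.lsmul A W x) ∧
      ∀ a ∈ maximalIdeal A, a • y ∈ LinearMap.range (LinearMap.lsmul A W x) := by
  let Q := W ⧸ LinearMap.range (LinearMap.lsmul A W x)
  have hne : LinearMap.range (LinearMap.lsmul A W x) ≠ ⊤ := by
    intro h
    have h' : (⊤ : Submodule A W) ≤ maximalIdeal A • ⊤ := by
      intro w _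
      obtain ⟨w', rfl⟩ : w ∈ LinearMap.range (LinearMap.lsmul A W x) := by rw [h]; trivial
      exact Submodule.smul_mem_smul hxm trivial
    exact top_ne_bot (Submodule.eq_bot_of_le_smul_of_le_jacobson_bot (maximalIdeal A) ⊤
      Module.Finite.fg_top h' (maximalIdeal_le_jacobson ⊥))
  haveI : Nontrivial Q := Submodule.Quotient.nontrivial_iff.2 hne
  obtain ⟨p, hp⟩ := associatedPrimes.nonempty A Q
  have hp' : IsAssociatedPrime p Q := hp
  obtain ⟨hprime, q, hq⟩ := (isAssociatedPrime_iff_exists_injective_linearMap p Q).1 hp'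
  have hxp : x ∈ p := by
    rw [← Ideal.Quotient.eq_zero_iff_mem]
    refine hq ?_
    rw [map_zero, show Ideal.Quotient.mk p x = x • (1 : A ⧸ p) by
      rw [Algebra.smul_def, mul_one]; rfl, map_smul]
    obtain ⟨w, hw⟩ := Submodule.Quotient.mk_surjective _ (q 1)
    rw [← hw, ← Submodule.Quotient.mk_smul, Submodule.Quotient.mk_eq_zero]
    exact ⟨w, rfl⟩
  obtain rfl := eq_maximalIdeal_of_mem hprime hx hxp
  obtain ⟨y, hy⟩ := Submodule.Quotient.mk_surjective _ (q 1)
  refine ⟨y, fun hy' => ?_, fun a ha => ?_⟩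
  · rw [← Submodule.Quotient.mk_eq_zero, hy, ← map_zero q] at hy'
    exact hprime.ne_top ((Ideal.eq_top_iff_one _).2 (Ideal.Quotient.eq_zero_iff_mem.1 (hq hy')))
  · rw [← Submodule.Quotient.mk_eq_zero, Submodule.Quotient.mk_smul, hy, ← map_smul,
      show a • (1 : A ⧸ maximalIdeal A) = 0 by
        rw [Algebra.smul_def, mul_one]; exact Ideal.Quotient.eq_zero_iff_mem.2 ha, map_zero]

theorem not_subsingleton_ext_one (hdim : maximalIdeal A ≠ ⊥) (W : Type u) [AddCommGroup W] [Module A W]
    [Module.Finite A W] [Nontrivial W] [Module.IsTorsionFree A W] :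
    ¬ Subsingleton (Ext (ModuleCat.of A (A ⧸ maximalIdeal A)) (ModuleCat.of A W) 1) := by
  intro hs
  obtain ⟨x, hxm, hx⟩ := Submodule.exists_mem_ne_zero_of_ne_bot hdim
  obtain ⟨y, hy, hmy⟩ := exists_socle W hx hxm
  obtain ⟨δ, -, hδ⟩ := Groth.L21.ExtLattice.exists_ext_one_of_presentation
    (maximalIdeal A).mkQ (Submodule.mkQ_surjective _) (Module.Free.chooseBasis A A) W
  have hinj : Function.Injective (LinearMap.lsmul A W x) := fun a b h =>
    smul_right_injective W hx h
  let φ : ↥(LinearMap.ker (maximalIdeal A).mkQ) →ₗ[A] W :=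
    (LinearEquiv.ofInjective _ hinj).symm.toLinearMap ∘ₗ
      LinearMap.codRestrict _ ((LinearMap.toSpanSingleton A W y) ∘ₗ Submodule.subtype _)
        (fun a => hmy _ ((Submodule.ker_mkQ _).le a.2))
  obtain ⟨g, hg⟩ := (hδ φ).1 (Subsingleton.elim _ _)
  have hx' : x ∈ LinearMap.ker (maximalIdeal A).mkQ := by rwa [Submodule.ker_mkQ]
  have h1 : g x = φ ⟨x, hx'⟩ := LinearMap.congr_fun hg ⟨x, hx'⟩
  have h2 : φ ⟨x, hx'⟩ = y := by
    refine (LinearEquiv.symm_apply_eq _).2 (Subtype.ext ?_)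
    rfl
  refine hy ⟨g 1, ?_⟩
  rw [LinearMap.lsmul_apply, ← map_smul, smul_eq_mul, mul_one, h1, h2]

/-- `A` has vanishing higher `Ext` into itself when Gorenstein of dimension `≤ 1`. -/
theorem vanishes_self [LocCoh.IsGorensteinLocalRing A] : Vanishes A A := by
  obtain ⟨n, hn⟩ := LocCoh.IsGorensteinLocalRing.exists_hasInjectiveDimensionLT (A := A)
  suffices h : ∀ (m : ℕ) (X : Type u) [AddCommGroup X] [Module A X] [Module.Finite A X] (i : ℕ),
      n ≤ i + m → 2 ≤ i → Subsingleton (Ext (ModuleCat.of A X) (ModuleCat.of A A) i) by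
    exact vanishes_of_two_le A fun X _ _ _ i => h n X (i + 2) (by omega) (by omega)
  intro m
  induction m with
  | zero =>
    intro X _ _ _ i hi _
    exact HasInjectiveDimensionLT.subsingleton (ModuleCat.of A A) n i (by omega) _
  | succ m ih =>
    intro X _ _ _ i hi h2
    refine Groth.L29.Gorenstein.subsingleton_ext_of_residueField (ModuleCat.of A A) i (fun j hij => ?_)
      1 X (le_trans (Module.supportDim_le_ringKrullDim A X)
        (by exact_mod_cast (Ring.krullDimLE_iff.1 ‹Ring.KrullDimLE 1 A›))) i le_rfl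
    by_cases hbot : maximalIdeal A = ⊥
    · have h0 : Module.Free A (ResidueField A) := by
        have hb : Function.Bijective (residue A) :=
          ⟨(injective_iff_map_eq_zero _).2 fun a ha => by
            rw [residue_eq_zero_iff, hbot] at ha; exact ha, residue_surjective⟩
        exact Module.Free.of_equiv (LinearEquiv.ofBijective (Algebra.linearMap A (ResidueField A)) hb)
      obtain ⟨j, rfl⟩ : ∃ j', j = j' + 1 := ⟨j - 1, by omega⟩
      exact subsingleton_ext_free _ j
    obtain ⟨x, hxm, hx⟩ := Submodule.exists_mem_ne_zero_of_ne_bot hbot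
    obtain ⟨y, hy, hmy⟩ := exists_socle (A := A) A hx hxm
    -- `k ↪ A/(x)`, and `A/(x)` has projective dimension one
    let I := LinearMap.range (LinearMap.lsmul A A x)
    let ι : ResidueField A →ₗ[A] A ⧸ I :=
      Submodule.liftQ (maximalIdeal A) (I.mkQ ∘ₗ LinearMap.toSpanSingleton A A y) fun a ha =>
        (Submodule.Quotient.mk_eq_zero I).2 (hmy a ha)
    have hι : Function.Injective ι := by
      rw [injective_iff_map_eq_zero]
      intro z hz
      obtain ⟨a, rfl⟩ := residue_surjective z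
      rw [residue_eq_zero_iff]
      by_contra ha
      refine hy ?_
      obtain ⟨v, rfl⟩ := notMem_maximalIdeal.1 ha
      have h1 : (v : A) • y ∈ I := (Submodule.Quotient.mk_eq_zero I).1 hz
      have h2 := I.smul_mem (↑v⁻¹ : A) h1
      rwa [smul_smul, Units.inv_mul, one_smul] at h2
    let S := ShortComplex.mk (ModuleCat.ofHom ι) (ModuleCat.ofHom (LinearMap.range ι).mkQ)
      (by ext z; exact (Submodule.Quotient.mk_eq_zero _).2 ⟨z, rfl⟩)
    have hS : S.ShortExact :=
      { exact := by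
          rw [ShortComplex.moduleCat_exact_iff]
          intro z hz
          exact (Submodule.Quotient.mk_eq_zero _).1 hz
        mono_f := (ModuleCat.mono_iff_injective _).2 hι
        epi_g := (ModuleCat.epi_iff_surjective _).2 (Submodule.mkQ_surjective _) }
    haveI := ih ((A ⧸ I) ⧸ LinearMap.range ι) (j + 1) (by omega) (by omega)
    haveI : Subsingleton (Ext (ModuleCat.of A (A ⧸ I)) (ModuleCat.of A A) j) := by
      have hT := LinearMap.shortExact_shortComplexKer (f := I.mkQ) (Submodule.mkQ_surjective _)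
      refine subsingleton_of_forall_eq 0 fun z => ?_
      obtain ⟨j, rfl⟩ : ∃ j', j = j' + 2 := ⟨j - 2, by omega⟩
      haveI := subsingleton_ext_free (F := A) (ModuleCat.of A A) (j + 1)
      obtain ⟨w, rfl⟩ := Ext.contravariant_sequence_exact₃ hT _ z
        (Subsingleton.elim (α := Ext (ModuleCat.of A A) (ModuleCat.of A A) (j + 1 + 1)) _ _)
        (show 1 + (j + 1) = j + 2 by omega)
      have e : ↥(LinearMap.ker I.mkQ) ≃ₗ[A] A :=
        ((LinearEquiv.ofInjective (LinearMap.lsmul A A x) (fun a b h => mul_left_cancel₀ hx h)).trans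
          (LinearEquiv.ofEq _ _ (Submodule.ker_mkQ I).symm)).symm
      haveI : Module.Free A ↥(LinearMap.ker I.mkQ) := Module.Free.of_equiv e.symm
      haveI := subsingleton_ext_free (F := ↥(LinearMap.ker I.mkQ)) (ModuleCat.of A A) j
      rw [Subsingleton.elim (α := Ext (ModuleCat.of A ↥(LinearMap.ker I.mkQ)) (ModuleCat.of A A) (j + 1)) w 0,
        Ext.comp_zero]
    refine subsingleton_of_forall_eq 0 fun z => ?_
    obtain ⟨w, rfl⟩ := Ext.contravariant_sequence_exact₁ hS _ z (show 1 + j = j + 1 by omega)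
      (Subsingleton.elim (α := Ext (ModuleCat.of A ((A ⧸ I) ⧸ LinearMap.range ι)) (ModuleCat.of A A) (j + 1)) _ _)
    rw [Subsingleton.elim (α := Ext (ModuleCat.of A (A ⧸ I)) (ModuleCat.of A A) j) w 0, Ext.comp_zero]

/-- `End ω = A`. -/
theorem lsmul_surjective (hdim : maximalIdeal A ≠ ⊥) {W : Type u} [AddCommGroup W] [Module A W]
    [Module.Finite A W] [Nontrivial W] [Module.IsTorsionFree A W] (hW : Vanishes A W)
    (hrank : ∀ w w₀ : W, w₀ ≠ 0 → ∃ a c : A, c ≠ 0 ∧ c • w = a • w₀) :
    Function.Surjective (LinearMap.lsmul A W) := by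
  obtain ⟨w₀, hw₀⟩ := exists_ne (0 : W)
  have htf := Module.isTorsionFree_iff_smul_eq_zero.1 ‹Module.IsTorsionFree A W›
  have hdet : ∀ φ : W →ₗ[A] W, φ w₀ = 0 → φ = 0 := fun φ h => LinearMap.ext fun w => by
    obtain ⟨a, c, hc, hac⟩ := hrank w w₀ hw₀
    refine (htf c (φ w) ?_).resolve_left hc
    rw [← map_smul, hac, map_smul, h, smul_zero]
  haveI : Module.IsTorsionFree A (W →ₗ[A] W) := isTorsionFree_hom
  haveI : Module.Finite A (W →ₗ[A] W) :=
    Module.Finite.of_injective (LinearMap.applyₗ w₀) ((injective_iff_map_eq_zero _).2 fun φ h => hdet φ h)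
  let j : A →ₗ[A] (W →ₗ[A] W) := LinearMap.lsmul A W
  by_contra hne
  haveI : Nontrivial ((W →ₗ[A] W) ⧸ LinearMap.range j) :=
    Submodule.Quotient.nontrivial_iff.2 fun h => hne (LinearMap.range_eq_top.1 h)
  let Q := (W →ₗ[A] W) ⧸ LinearMap.range j
  -- `Q` is torsion
  have htors : ∀ φ : W →ₗ[A] W, ∃ c : A, c ≠ 0 ∧ c • φ ∈ LinearMap.range j := by
    intro φ
    obtain ⟨a, c, hc, hac⟩ := hrank (φ w₀) w₀ hw₀
    exact ⟨c, hc, a, sub_eq_zero.1 (hdet _ (by
      rw [LinearMap.sub_apply, LinearMap.smul_apply, hac]; exact sub_self _))⟩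
  -- `Ext¹(Q, W) = 0`
  have hQ : Subsingleton (Ext (ModuleCat.of A Q) (ModuleCat.of A W) 1) := by
    let S := ShortComplex.mk (ModuleCat.ofHom j) (ModuleCat.ofHom (LinearMap.range j).mkQ)
      (ModuleCat.hom_ext (LinearMap.ext fun z => (Submodule.Quotient.mk_eq_zero _).2 ⟨z, rfl⟩))
    have hS : S.ShortExact :=
      { exact := by
          rw [ShortComplex.moduleCat_exact_iff]
          intro z hz
          exact (Submodule.Quotient.mk_eq_zero _).1 hz
        mono_f := (ModuleCat.mono_iff_injective _).2 ((injective_iff_map_eq_zero _).2 fun a ha =>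
          (htf a w₀ (LinearMap.congr_fun ha w₀)).resolve_right hw₀)
        epi_g := (ModuleCat.epi_iff_surjective _).2 (Submodule.mkQ_surjective _) }
    haveI := hW (W →ₗ[A] W) 0
    refine subsingleton_of_forall_eq 0 fun z => ?_
    obtain ⟨y, rfl⟩ := Ext.contravariant_sequence_exact₃ hS _ z
      (Subsingleton.elim (α := Ext (ModuleCat.of A (W →ₗ[A] W)) (ModuleCat.of A W) 1) _ _) (add_zero 1)
    obtain ⟨φ, rfl⟩ := Ext.addEquiv₀.symm.surjective y
    have hφ : φ = S.f ≫ ModuleCat.ofHom (LinearMap.applyₗ (φ.hom (1 : A))) := by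
      ext
      change φ.hom 1 = (1 : A) • φ.hom 1
      rw [one_smul]
    rw [Ext.addEquiv₀_symm_apply, hφ, ← Ext.mk₀_comp_mk₀, hS.extClass_comp_assoc]
  -- so `Ext¹(k, W) = 0`
  obtain ⟨N, hN, -⟩ := (eq_top_or_exists_le_coatom (⊥ : Submodule A Q)).resolve_left bot_ne_top
  haveI : IsSimpleModule A (Q ⧸ N) := isSimpleModule_iff_isCoatom.2 hN
  obtain ⟨m, hm, ⟨e⟩⟩ := isSimpleModule_iff_quot_maximal.1 ‹IsSimpleModule A (Q ⧸ N)›
  refine not_subsingleton_ext_one hdim W ?_
  obtain rfl := eq_maximalIdeal hm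
  let g : Q →ₗ[A] A ⧸ maximalIdeal A := e.toLinearMap ∘ₗ N.mkQ
  have hg : Function.Surjective g := e.surjective.comp (Submodule.mkQ_surjective N)
  have hT := LinearMap.shortExact_shortComplexKer hg
  refine subsingleton_of_forall_eq 0 fun z => ?_
  obtain ⟨y, rfl⟩ := Ext.contravariant_sequence_exact₃ hT _ z
    (Subsingleton.elim (α := Ext (ModuleCat.of A Q) (ModuleCat.of A W) 1) _ _) (add_zero 1)
  obtain ⟨φ, rfl⟩ := Ext.addEquiv₀.symm.surjective y
  have hφ : φ = 0 := by
    ext ⟨q, hq⟩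
    obtain ⟨ψ, rfl⟩ := Submodule.Quotient.mk_surjective _ q
    obtain ⟨c, hc, hcψ⟩ := htors ψ
    refine (htf c _ ?_).resolve_left hc
    rw [← map_smul]
    have h0 : c • (⟨Submodule.Quotient.mk ψ, hq⟩ : ↥(LinearMap.ker g)) = 0 :=
      Subtype.ext ((Submodule.Quotient.mk_eq_zero _).2 hcψ)
    rw [h0, map_zero]
  rw [Ext.addEquiv₀_symm_apply, hφ, Ext.mk₀_zero, Ext.comp_zero]

end

/-- Biduality. -/
theorem eval_bijective {W : Type u} [AddCommGroup W] [Module A W] [Module.Finite A W] [Nontrivial W]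
    [Module.IsTorsionFree A W] (hW : Vanishes A W) (hEnd : Function.Surjective (LinearMap.lsmul A W))
    (X : Type u) [AddCommGroup X] [Module A X] [Module.Finite A X] [Module.IsTorsionFree A X] :
    Function.Bijective (LinearMap.flip (LinearMap.id : (X →ₗ[A] W) →ₗ[A] X →ₗ[A] W)) := by
  classical
  have htf := Module.isTorsionFree_iff_smul_eq_zero.1 ‹Module.IsTorsionFree A W›
  constructor
  · rw [injective_iff_map_eq_zero]
    intro x hx
    obtain ⟨n, f, g, c, hc, hgf, -⟩ := Groth.L03.Lattice.exists_free_comp (R := A) X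
    obtain ⟨w, hw⟩ := exists_ne (0 : W)
    refine Groth.L03.Lattice.injective_of_comp f g hc hgf ((funext fun j => ?_).trans (map_zero f).symm)
    exact (htf _ w (LinearMap.congr_fun hx
      ((LinearMap.toSpanSingleton A W w) ∘ₗ (LinearMap.proj j) ∘ₗ f))).resolve_right hw
  · intro ψ
    obtain ⟨r, f, hf⟩ := Module.Finite.exists_fin' A X
    have hD := dualComplex_shortExact hW f hf
    -- extend `ψ` to the dual of the free module
    haveI : Module.Finite A ↥(LinearMap.ker f) := inferInstance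
    haveI : Module.IsTorsionFree A (↥(LinearMap.ker f) →ₗ[A] W) := isTorsionFree_hom
    haveI : Module.Finite A (↥(LinearMap.ker f) →ₗ[A] W) :=
      Module.Finite.of_surjective (LinearMap.lcomp A W (LinearMap.ker f).subtype)
        ((ModuleCat.epi_iff_surjective _).1 hD.epi_g)
    haveI := hW (↥(LinearMap.ker f) →ₗ[A] W) 0
    obtain ⟨y, hy⟩ := Ext.contravariant_sequence_exact₁ hD _
      (Ext.mk₀ (ModuleCat.ofHom ψ)) (add_zero 1)
      (Subsingleton.elim (α := Ext (ModuleCat.of A (↥(LinearMap.ker f) →ₗ[A] W)) (ModuleCat.of A W) 1) _ _)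
    obtain ⟨Ψ, rfl⟩ := Ext.addEquiv₀.symm.surjective y
    rw [Ext.addEquiv₀_symm_apply, Ext.mk₀_comp_mk₀] at hy
    let Ψ' : ((Fin r → A) →ₗ[A] W) →ₗ[A] W := Ψ.hom
    have hΨ : ∀ φ : X →ₗ[A] W, Ψ' (φ.comp f) = ψ φ := fun φ =>
      LinearMap.congr_fun (congrArg ModuleCat.Hom.hom ((Ext.mk₀_bijective _ _).1 hy)) φ
    let emb : Fin r → W →ₗ[A] ((Fin r → A) →ₗ[A] W) := fun j =>
      LinearMap.smulRightₗ (LinearMap.proj j)
    choose a ha using fun j => hEnd (Ψ' ∘ₗ emb j)
    refine ⟨f a, LinearMap.ext fun φ => ?_⟩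
    change φ (f a) = ψ φ
    rw [← hΨ φ]
    have hsum : φ.comp f = ∑ j, emb j ((φ.comp f) (Pi.single j 1)) := by
      refine (Pi.basisFun A (Fin r)).ext fun l => ?_
      simp [emb, Pi.single_apply]
    rw [show φ (f a) = (φ.comp f) a from rfl]
    conv_rhs => rw [hsum, map_sum]
    rw [pi_eq_sum_univ' a, map_sum]
    refine Finset.sum_congr rfl fun j _ => ?_
    rw [map_smul]
    exact LinearMap.congr_fun (ha j) _

end Groth.L21.TFDual
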