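import Groth.Agent.L21.TFDual.Canonical
import Mathlib.RingTheory.Localization.FractionRing
import Mathlib.RingTheory.KrullDimension.Field
import Mathlib.Algebra.Algebra.Bilinear
import Mathlib.RingTheory.Finiteness.Basic

/-! Submodules of the fraction field of a one-dimensional local domain. -/

set_option autoImplicit false
universe u

open IsLocalRing

namespace Groth.L21.TFDual

variable {A : Type u} [CommRing A] [IsDomain A] {K : Type u} [Field K] [Algebra A K] [IsFractionRing A K]

theorem isTorsionFree_fractionField : Module.IsTorsionFree A K :=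
  Module.isTorsionFree_iff_algebraMap_injective.2 (IsFractionRing.injective A K)

theorem isTorsionFree_submodule (W : Submodule A K) : Module.IsTorsionFree A ↥W := by
  haveI := isTorsionFree_fractionField (A := A) (K := K)
  exact Module.isTorsionFree_iff_smul_eq_zero.2 fun a x h =>
    (Module.isTorsionFree_iff_smul_eq_zero.1 ‹Module.IsTorsionFree A K› a (x : K)
      (congrArg Subtype.val h)).imp id Subtype.ext

theorem exists_rank_one (W : Submodule A K) (w w₀ : ↥W) (hw₀ : w₀ ≠ 0) :
    ∃ a c : A, c ≠ 0 ∧ c • w = a • w₀ := by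
  obtain ⟨a, c, hc, h⟩ := IsFractionRing.div_surjective A ((w : K) / w₀)
  refine ⟨a, c, nonZeroDivisors.ne_zero hc, Subtype.ext ?_⟩
  have hc' : algebraMap A K c ≠ 0 :=
    IsFractionRing.to_map_ne_zero_of_mem_nonZeroDivisors hc
  have h0 : (w₀ : K) ≠ 0 := fun h => hw₀ (Subtype.ext h)
  rw [Submodule.coe_smul, Submodule.coe_smul, Algebra.smul_def, Algebra.smul_def]
  field_simp at h
  linear_combination -h

theorem krullDimLE_one (hdim : ringKrullDim A = 1) : Ring.KrullDimLE 1 A :=
  Ring.krullDimLE_iff.2 (by rw [hdim]; rfl)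

theorem maximalIdeal_ne_bot [IsLocalRing A] (hdim : ringKrullDim A = 1) : maximalIdeal A ≠ ⊥ := by
  intro h
  rw [ringKrullDim_eq_zero_of_isField (isField_iff_maximalIdeal_eq.2 h)] at hdim
  exact zero_ne_one hdim

theorem isTorsionFree_of_noZeroSMulDivisors {M : Type u} [AddCommGroup M] [Module A M]
    [NoZeroSMulDivisors A M] : Module.IsTorsionFree A M :=
  Module.isTorsionFree_iff_smul_eq_zero.2 fun _ _ h => eq_zero_or_eq_zero_of_smul_eq_zero h

end Groth.L21.TFDual
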