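import Groth.Agent.L21.TFDual.Length
import Groth.Agent.L21.ExtLattice.Length
import Groth.Agent.L21.ValueSemigroup
import Mathlib.RingTheory.PowerSeries.Trunc
import Mathlib.Algebra.Ring.GeomSum

/-! Value sets of lattices over complete unibranch curve rings. -/

set_option autoImplicit false
universe u

open PowerSeries CategoryTheory
open Groth.L21.ValueSemigroup (le_order_iff)

namespace Groth.L21.ValueLattice

section LenQ

variable {R : Type u} [CommRing R] {V : Type u} [AddCommGroup V] [Module R V]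

/-- `len (P / P ∩ Q)`. -/
noncomputable def lenQ (P Q : Submodule R V) : ℕ∞ := Module.length R (↥P ⧸ Q.comap P.subtype)

theorem lenQ_add {M N P : Submodule R V} (h₁ : M ≤ N) (h₂ : N ≤ P) :
    lenQ P M = lenQ N M + lenQ P N := TFDual.length_quotient_add h₁ h₂

theorem lenQ_eq_zero {P Q : Submodule R V} (h : P ≤ Q) : lenQ P Q = 0 := by
  haveI : Subsingleton (↥P ⧸ Q.comap P.subtype) := by
    rw [Submodule.Quotient.subsingleton_iff, eq_top_iff]
    exact fun p _ => h p.2
  exact Module.length_eq_zero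

end LenQ

variable {k : Type u} [Field k] (A : Subalgebra k (PowerSeries k)) {c : ℕ}
  (hX : ∀ f : PowerSeries k, (c : ℕ∞) ≤ f.order → f ∈ A)

theorem le_order_mul_left {f : PowerSeries k} (g : PowerSeries k) {n : ℕ} (hf : (n : ℕ∞) ≤ f.order) :
    (n : ℕ∞) ≤ (f * g).order :=
  le_trans hf (le_trans (le_add_of_nonneg_right zero_le) (le_order_mul _ _))

include hX in
theorem X_pow_mem {n : ℕ} (hn : c ≤ n) : (X ^ n : PowerSeries k) ∈ A :=
  hX _ (by rw [order_X_pow]; exact_mod_cast hn)

include hX in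
theorem birational (s : PowerSeries k) :
    ∃ a : A, a ≠ 0 ∧ a • s ∈ (1 : Submodule A (PowerSeries k)) := by
  refine ⟨⟨_, X_pow_mem A hX le_rfl⟩, fun h => pow_ne_zero c X_ne_zero (congrArg Subtype.val h), ?_⟩
  refine Submodule.mem_one.2 ⟨⟨X ^ c * s, hX _ (le_order_mul_left s ?_)⟩, rfl⟩
  rw [order_X_pow]

include hX in
theorem isUnit_of_constantCoeff (a : A) (ha : constantCoeff (a : PowerSeries k) ≠ 0) : IsUnit a := by
  obtain ⟨v, hv⟩ :=
    (isUnit_iff_constantCoeff.2 (isUnit_iff_ne_zero.2 ha) : IsUnit (a : PowerSeries k))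
  set a₀ := constantCoeff (a : PowerSeries k)
  -- `h` is nilpotent modulo series of order `≥ c`
  let h : PowerSeries k := 1 - C a₀⁻¹ * (a : PowerSeries k)
  have hhA : h ∈ A := A.sub_mem A.one_mem (A.mul_mem (Groth.L21.ValueSemigroup.C_mem A _) a.2)
  have hh : (1 : ℕ) ≤ h.order := by
    rw [le_order_iff]
    intro i hi
    obtain rfl : i = 0 := by omega
    rw [coeff_zero_eq_constantCoeff_apply, map_sub, map_one, map_mul, constantCoeff_C, inv_mul_cancel₀ ha,
      sub_self]
  have hhc : (c : ℕ∞) ≤ (h ^ c).order := by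
    rw [order_pow, nsmul_eq_mul]
    calc (c : ℕ∞) = c * (1 : ℕ) := by rw [Nat.cast_one, mul_one]
      _ ≤ c * h.order := by gcongr
  have hinv : (↑v⁻¹ : PowerSeries k) ∈ A := by
    have e : (↑v⁻¹ : PowerSeries k) =
        C a₀⁻¹ * (∑ i ∈ Finset.range c, h ^ i) + h ^ c * ↑v⁻¹ := by
      have hg : (∑ i ∈ Finset.range c, h ^ i) * (1 - h) = 1 - h ^ c := geom_sum_mul_neg h c
      have h1 : (1 : PowerSeries k) - h = C a₀⁻¹ * (a : PowerSeries k) := sub_sub_cancel _ _
      rw [h1] at hg
      have hva : (↑v⁻¹ : PowerSeries k) * (a : PowerSeries k) = 1 := by rw [← hv]; exact v.inv_mul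
      linear_combination (↑v⁻¹ : PowerSeries k) * (-1) * hg +
        (C a₀⁻¹ * ∑ i ∈ Finset.range c, h ^ i) * hva
    rw [e]
    exact A.add_mem (A.mul_mem (Groth.L21.ValueSemigroup.C_mem A _) (A.sum_mem fun i _ => A.pow_mem hhA i))
      (hX _ (le_order_mul_left _ hhc))
  exact IsUnit.of_mul_eq_one (⟨_, hinv⟩ : A) (Subtype.ext (by
    change (a : PowerSeries k) * ↑v⁻¹ = 1
    rw [← hv]; exact v.mul_inv))

/-- The augmentation. -/
noncomputable def eps : A →ₐ[k] k :=
  { (constantCoeff : PowerSeries k →+* k).comp A.val.toRingHom with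
    commutes' := fun x => by
      change constantCoeff ((algebraMap k A x : A) : PowerSeries k) = x
      rw [Subalgebra.coe_algebraMap, PowerSeries.algebraMap_apply]
      simp }

include hX in
theorem isLocalRing : IsLocalRing A :=
  haveI : IsLocalHom (eps A).toRingHom := ⟨fun a ha => isUnit_of_constantCoeff A hX a ha.ne_zero⟩
  RingHom.domain_isLocalRing (eps A).toRingHom

theorem not_isUnit_of_order {n : ℕ} (hn : 0 < n) (a : A) (ha : (a : PowerSeries k) = X ^ n) :
    ¬ IsUnit a := fun h => by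
  have := (h.map (eps A)).ne_zero
  rw [show eps A a = constantCoeff (a : PowerSeries k) from rfl, ha, map_pow, constantCoeff_X,
    zero_pow hn.ne'] at this
  exact this rfl

include hX in
theorem maximalIdeal_ne_bot [IsLocalRing A] : IsLocalRing.maximalIdeal A ≠ ⊥ := by
  intro h
  have h1 : (⟨X ^ (c + 1), X_pow_mem A hX (Nat.le_succ c)⟩ : A) ∈ IsLocalRing.maximalIdeal A :=
    (IsLocalRing.mem_maximalIdeal _).2 (not_isUnit_of_order A (Nat.succ_pos c) _ rfl)
  rw [h, Submodule.mem_bot] at h1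
  exact pow_ne_zero (c + 1) X_ne_zero (congrArg Subtype.val h1)

include hX in
theorem krullDimLE_one : Ring.KrullDimLE 1 A := by
  haveI := isLocalRing A hX
  refine Ring.KrullDimLE.mk₁' fun P hP0 hP => ?_
  suffices P = IsLocalRing.maximalIdeal A from this ▸ IsLocalRing.maximalIdeal.isMaximal A
  obtain ⟨f, hfP, hf0⟩ := Submodule.exists_mem_ne_zero_of_ne_bot hP0
  refine le_antisymm (IsLocalRing.le_maximalIdeal hP.ne_top) fun a ha => ?_
  have hf' : (f : PowerSeries k) ≠ 0 := fun h => hf0 (Subtype.ext h)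
  set v := (f : PowerSeries k).order.toNat
  have ha' : constantCoeff (a : PowerSeries k) = 0 := by
    by_contra h
    exact (IsLocalRing.mem_maximalIdeal a).1 ha (isUnit_of_constantCoeff A hX a h)
  have ho : ((c + v : ℕ) : ℕ∞) ≤ ((a : PowerSeries k) ^ (c + v)).order := by
    rw [order_pow, nsmul_eq_mul]
    have : (1 : ℕ∞) ≤ (a : PowerSeries k).order := by
      refine le_order_iff.2 fun i hi => ?_
      obtain rfl : i = 0 := by omega
      rwa [coeff_zero_eq_constantCoeff_apply]
    calc ((c + v : ℕ) : ℕ∞) = (c + v : ℕ) * 1 := by rw [mul_one]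
      _ ≤ _ := by gcongr
  obtain ⟨g, hg⟩ : (X : PowerSeries k) ^ v ∣ (a : PowerSeries k) ^ (c + v) :=
    (pow_dvd_pow X (Nat.le_add_left v c)).trans (X_pow_dvd_iff.2 (le_order_iff.1 ho))
  have hu : IsUnit (divXPowOrder (f : PowerSeries k)) :=
    isUnit_iff_constantCoeff.2
      (isUnit_iff_ne_zero.2 fun h => hf' (constantCoeff_divXPowOrder_eq_zero_iff.1 h))
  obtain ⟨w, hw⟩ := hu.exists_right_inv
  have hgw : g * w ∈ A := hX _ (by
    refine le_order_mul_left w ?_
    rw [le_order_iff] at ho ⊢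
    intro i hi
    have := ho (i + v) (by omega)
    rwa [hg, coeff_X_pow_mul] at this)
  refine hP.mem_of_pow_mem (c + v) ?_
  have : a ^ (c + v) = f * ⟨g * w, hgw⟩ := Subtype.ext (by
    change (a : PowerSeries k) ^ (c + v) = (f : PowerSeries k) * (g * w)
    conv_rhs => rw [← X_pow_order_mul_divXPowOrder (f := (f : PowerSeries k))]
    rw [hg, show (X : PowerSeries k) ^ v * divXPowOrder (f : PowerSeries k) * (g * w) =
      X ^ v * g * (divXPowOrder (f : PowerSeries k) * w) by ring, hw, mul_one])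
  rw [this]
  exact P.mul_mem_right _ hfP

include hX in
/-- Every submodule containing all series of order `≥ d` is finitely generated. -/
theorem fg_of_high (d : ℕ) (M : Submodule A (PowerSeries k))
    (hM : ∀ f : PowerSeries k, (d : ℕ∞) ≤ f.order → f ∈ M) : M.FG := by
  classical
  let π : (M.restrictScalars k) →ₗ[k] (Fin (d + c) → k) :=
    LinearMap.pi fun i => (coeff (R := k) i.1) ∘ₗ (M.restrictScalars k).subtype
  obtain ⟨s, hs⟩ := (IsNoetherian.noetherian (LinearMap.range π))
  have hrange : ∀ w ∈ LinearMap.range π, ∃ m : ↥(M.restrictScalars k), π m = w := fun w hw => hw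
  choose lift hlift using hrange
  let high : Finset (PowerSeries k) := (Finset.range (c + 1)).image fun i => X ^ (d + i)
  let low : Finset (PowerSeries k) := s.attach.image fun w =>
    (lift w.1 (hs ▸ Submodule.subset_span w.2) : PowerSeries k)
  refine ⟨high ∪ low, le_antisymm (Submodule.span_le.2 ?_) ?_⟩
  · intro x hx
    simp only [high, low, Finset.coe_union, Finset.coe_image, Set.mem_union, Set.mem_image,
      Finset.mem_coe, Finset.mem_range] at hx
    rcases hx with ⟨i, -, rfl⟩ | ⟨w, -, rfl⟩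
    · exact hM _ (by rw [order_X_pow]; exact_mod_cast Nat.le_add_right d i)
    · exact (lift _ _).2
  set N := Submodule.span A (((high ∪ low : Finset _) : Set (PowerSeries k))) with hN
  have hC : ∀ (t : k) {x : PowerSeries k}, x ∈ N → t • x ∈ N := fun t x hx => N.smul_of_tower_mem t hx
  -- series of order `≥ d + c`
  have hhigh : ∀ g : PowerSeries k, X ^ (d + c) * g ∈ N := by
    intro g
    have hxc : (X : PowerSeries k) ^ c * g ∈ A := hX _ (le_order_mul_left g (by rw [order_X_pow]))
    have hd : (X : PowerSeries k) ^ (d + 0) ∈ N := Submodule.subset_span (by simp [high]; exact Or.inl ⟨0, by omega, rfl⟩)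
    have := N.smul_mem (⟨_, hxc⟩ : A) hd
    rw [show (X : PowerSeries k) ^ (d + c) * g = X ^ c * g * X ^ (d + 0) by rw [add_zero, pow_add]; ring]
    exact this
  intro f hf
  obtain ⟨coeffs, hsum⟩ : ∃ g ∈ N, π ⟨f, hf⟩ = fun i => coeff i.1 g := by
    have h1 : π ⟨f, hf⟩ ∈ Submodule.span k (s : Set (Fin (d + c) → k)) := hs ▸ ⟨_, rfl⟩
    generalize π ⟨f, hf⟩ = w at h1 ⊢
    induction h1 using Submodule.span_induction with
    | mem w hw =>
      refine ⟨_, Submodule.subset_span ?_, (hlift w (hs ▸ Submodule.subset_span hw)).symm⟩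
      simp only [low, Finset.coe_union, Finset.coe_image, Set.mem_union, Set.mem_image, Finset.mem_coe]
      exact Or.inr ⟨⟨w, hw⟩, Finset.mem_attach _ _, rfl⟩
    | zero => exact ⟨0, N.zero_mem, funext fun i => (map_zero _).symm⟩
    | add x y _ _ hx hy =>
      obtain ⟨g, hg, rfl⟩ := hx
      obtain ⟨g', hg', rfl⟩ := hy
      exact ⟨g + g', N.add_mem hg hg', funext fun i => (map_add _ _ _).symm⟩
    | smul t x _ hx =>
      obtain ⟨g, hg, rfl⟩ := hx
      exact ⟨t • g, hC t hg, funext fun i => by rw [Pi.smul_apply]; exact (map_smul _ t g).symm⟩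
  obtain ⟨hgN, hπ⟩ := hsum
  obtain ⟨q, hq⟩ : (X : PowerSeries k) ^ (d + c) ∣ f - coeffs :=
    X_pow_dvd_iff.2 fun i hi => by
      rw [map_sub, sub_eq_zero]
      exact congrFun hπ ⟨i, hi⟩
  have := N.add_mem hgN (hhigh q)
  rwa [← hq, add_sub_cancel] at this

include hX in
theorem high_of_ne_bot (M : Submodule A (PowerSeries k)) (hM : M ≠ ⊥) :
    ∃ d : ℕ, ∀ f : PowerSeries k, (d : ℕ∞) ≤ f.order → f ∈ M := by
  obtain ⟨m, hmM, hm0⟩ := Submodule.exists_mem_ne_zero_of_ne_bot hM
  refine ⟨c + m.order.toNat, fun f hf => ?_⟩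
  have hu : IsUnit (divXPowOrder m) :=
    isUnit_iff_constantCoeff.2
      (isUnit_iff_ne_zero.2 fun h => hm0 (constantCoeff_divXPowOrder_eq_zero_iff.1 h))
  obtain ⟨w, hw⟩ := hu.exists_right_inv
  obtain ⟨g, rfl⟩ : (X : PowerSeries k) ^ (c + m.order.toNat) ∣ f := X_pow_dvd_iff.2 (le_order_iff.1 hf)
  have hmem : (X : PowerSeries k) ^ c * (g * w) ∈ A := hX _ (le_order_mul_left _ (by rw [order_X_pow]))
  have := M.smul_mem (⟨_, hmem⟩ : A) hmM
  have e : (⟨_, hmem⟩ : A) • m = X ^ (c + m.order.toNat) * g := by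
    change X ^ c * (g * w) * m = _
    conv_lhs => arg 2; rw [← X_pow_order_mul_divXPowOrder (f := m)]
    rw [show X ^ c * (g * w) * (X ^ m.order.toNat * divXPowOrder m) =
      X ^ c * X ^ m.order.toNat * g * (divXPowOrder m * w) by ring, hw, mul_one, pow_add]
  rwa [e] at this

include hX in
theorem isNoetherianRing : IsNoetherianRing A := by
  rw [isNoetherianRing_iff_ideal_fg]
  intro I
  by_cases hI : I = ⊥
  · rw [hI]; exact Submodule.fg_bot
  let M : Submodule A (PowerSeries k) := Submodule.map (Algebra.linearMap A (PowerSeries k)) I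
  have hinj : Function.Injective (Algebra.linearMap A (PowerSeries k)) := Subtype.val_injective
  have hM : M ≠ ⊥ := fun h => hI (Submodule.map_injective_of_injective hinj (by rw [Submodule.map_bot]; exact h))
  obtain ⟨d, hd⟩ := high_of_ne_bot A hX M hM
  exact Submodule.fg_of_fg_map_injective _ hinj (fg_of_high A hX d M hd)

include hX in
theorem finite_top : Module.Finite A (PowerSeries k) :=
  ⟨fg_of_high A hX 0 ⊤ fun _ _ => trivial⟩

include hX in
theorem finite_submodule (M : Submodule A (PowerSeries k)) : Module.Finite A ↥M := by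
  haveI := isNoetherianRing A hX
  haveI := finite_top A hX
  exact Module.Finite.iff_fg.2 (IsNoetherian.noetherian M)

/-- The series of order `≥ j`. -/
def high (j : ℕ) : Submodule A (PowerSeries k) where
  carrier := {f | (j : ℕ∞) ≤ f.order}
  zero_mem' := by simp
  add_mem' := fun hf hg => Groth.L21.ValueSemigroup.le_order_add hf hg
  smul_mem' := fun a f hf => by
    change (j : ℕ∞) ≤ ((a : PowerSeries k) * f).order
    rw [mul_comm]
    exact le_order_mul_left _ hf

theorem mem_high {j : ℕ} {f : PowerSeries k} : f ∈ high A j ↔ (j : ℕ∞) ≤ f.order := Iff.rfl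

/-- The value set. -/
def values (M : Submodule A (PowerSeries k)) : Set ℕ := {n | ∃ f ∈ M, f.order = n}

theorem length_step {R : Type u} [CommRing R] [Algebra k R] [Algebra R (PowerSeries k)]
    [IsScalarTower k R (PowerSeries k)] (ε : R →ₐ[k] k) (hε : ∀ a, ε a ≠ 0 → IsUnit a) (j : ℕ)
    (P Q : Submodule R (PowerSeries k)) (hPQ : ∀ f, f ∈ Q ↔ f ∈ P ∧ coeff j f = 0)
    [Decidable (∃ f ∈ P, coeff j f ≠ 0)] :
    lenQ P Q = if ∃ f ∈ P, coeff j f ≠ 0 then 1 else 0 := by
  rw [lenQ]
  split_ifs with h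
  · obtain ⟨f, hf, hf'⟩ := h
    let φ : ↥P →ₗ[k] k := (coeff (R := k) j) ∘ₗ (P.subtype.restrictScalars k)
    rw [Groth.L21.ExtLattice.length_quotient_eq_finrank ε hε P Q φ]
    · simp [Module.finrank_self]
    · intro t
      refine ⟨(t / coeff j f) • (⟨f, hf⟩ : ↥P), ?_⟩
      rw [map_smul]
      exact div_mul_cancel₀ t hf'
    · intro p
      rw [hPQ]
      exact ⟨fun h => ⟨p.2, h⟩, fun h => h.2⟩
  · push Not at h
    haveI : Subsingleton (↥P ⧸ Q.comap P.subtype) := by
      rw [Submodule.Quotient.subsingleton_iff, eq_top_iff]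
      exact fun p _ => (hPQ _).2 ⟨p.2, h _ p.2⟩
    exact Module.length_eq_zero

include hX in
/-- `len (M / t^c k⟦t⟧)` counts the values below `c`. -/
theorem length_quotient_high [IsLocalRing A] (M : Submodule A (PowerSeries k)) (hM : high A c ≤ M)
    (D : Finset ℕ) (hD : ∀ n, n ∈ D ↔ n < c ∧ n ∈ values A M) :
    lenQ M (high A c) = (D.card : ℕ∞) := by
  classical
  have hε : ∀ a, eps A a ≠ 0 → IsUnit a := fun a ha => isUnit_of_constantCoeff A hX a ha
  have key : ∀ j ≤ c, lenQ M (M ⊓ high A j) =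
      (((Finset.range j).filter (· ∈ D)).card : ℕ∞) := by
    intro j hj
    induction j with
    | zero =>
      rw [lenQ_eq_zero (P := M) (Q := M ⊓ high A 0) (fun m hm => Submodule.mem_inf.2 ⟨hm, by simp [mem_high]⟩)]
      simp
    | succ j ih =>
      have hle : M ⊓ high A (j + 1) ≤ M ⊓ high A j := fun f hf =>
        ⟨hf.1, le_trans (by exact_mod_cast Nat.le_succ j) ((mem_high A).1 hf.2)⟩
      refine (lenQ_add hle inf_le_left).trans ?_
      refine (congrArg (_ + ·) (ih (by omega))).trans ?_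
      refine (congrArg (· + _) (length_step (eps A) hε j (M ⊓ high A j) (M ⊓ high A (j + 1)) ?_)).trans ?_
      · intro f
        simp only [Submodule.mem_inf, mem_high, le_order_iff]
        constructor
        · rintro ⟨h1, h2⟩
          exact ⟨⟨h1, fun i hi => h2 i (by omega)⟩, h2 j (Nat.lt_succ_self j)⟩
        · rintro ⟨⟨h1, h2⟩, h3⟩
          refine ⟨h1, fun i hi => ?_⟩
          rcases Nat.lt_succ_iff_lt_or_eq.1 hi with h | rfl
          exacts [h2 i h, h3]
      have hiff : (∃ f ∈ M ⊓ high A j, coeff j f ≠ 0) ↔ j ∈ D := by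
        rw [hD]
        constructor
        · rintro ⟨f, hf, hf'⟩
          exact ⟨by omega, f, hf.1, order_eq_nat.2 ⟨hf', le_order_iff.1 hf.2⟩⟩
        · rintro ⟨-, f, hf, hfo⟩
          exact ⟨f, Submodule.mem_inf.2 ⟨hf, (mem_high A).2 hfo.ge⟩, (order_eq_nat.1 hfo).1⟩
      rw [Finset.range_add_one, Finset.filter_insert]
      by_cases hjD : j ∈ D
      · rw [if_pos (hiff.2 hjD), if_pos hjD, Finset.card_insert_of_notMem (by simp), Nat.cast_add,
          Nat.cast_one, add_comm]
      · rw [if_neg (mt hiff.1 hjD), if_neg hjD, zero_add]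
  have := key c le_rfl
  rw [inf_eq_right.2 hM] at this
  rwa [Finset.filter_mem_eq_inter, Finset.inter_eq_right.2 (fun n hn => Finset.mem_range.2 ((hD n).1 hn).1)] at this

section Canonical

variable (Γ : Set ℕ) (hΓ : ∀ n : ℕ, n ∈ Γ ↔ ∃ f ∈ A, PowerSeries.order f = n)
  (hc0 : c ≠ 0) (hc1 : c - 1 ∉ Γ)
  (ω : Submodule A (PowerSeries k)) (hω1 : (1 : PowerSeries k) ∈ ω)
  (hωinj : HasInjectiveDimensionLT (ModuleCat.of A ↥ω) 2)

include hω1 in
theorem mem_of_one_mem {a : PowerSeries k} (ha : a ∈ A) : a ∈ ω := by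
  have := ω.smul_mem (⟨a, ha⟩ : A) hω1
  rwa [show (⟨a, ha⟩ : A) • (1 : PowerSeries k) = a from mul_one a] at this

include hX hΓ hc0 hc1 hω1 hωinj in
/-- `(ω : k⟦t⟧) = t^c k⟦t⟧`. -/
theorem colon_top [IsLocalRing A] [IsNoetherianRing A] [Ring.KrullDimLE 1 A] :
    ω / (⊤ : Submodule A (PowerSeries k)) = high A c := by
  haveI : Module.Finite A ↥ω := finite_submodule A hX ω
  haveI : Nontrivial ↥ω := ⟨⟨⟨1, hω1⟩, 0, fun h => one_ne_zero (congrArg Subtype.val h)⟩⟩
  have hself := TFDual.colon_self_eq_one (birational A hX) (maximalIdeal_ne_bot A hX) ω hωinj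
  refine le_antisymm (fun y hy => ?_) (fun y hy => ?_)
  · rw [Submodule.mem_div_iff_forall_mul_mem] at hy
    rw [mem_high]
    have hyA : ∀ z, y * z ∈ A := fun z => by
      have h1 : y * z ∈ (1 : Submodule A (PowerSeries k)) := by
        rw [← hself, Submodule.mem_div_iff_forall_mul_mem]
        intro w _
        rw [mul_assoc]
        exact hy _ trivial
      obtain ⟨a, ha⟩ := Submodule.mem_one.1 h1
      rw [← ha]; exact a.2
    by_contra hlt
    have hy0 : y ≠ 0 := fun h => hlt (by simp [h])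
    have hv : y.order.toNat < c := by
      by_contra h
      exact hlt ((coe_toNat_order hy0) ▸ (by exact_mod_cast not_lt.1 h))
    obtain ⟨v, hv'⟩ : ∃ v : ℕ, y.order = (v : ℕ∞) := ⟨_, (coe_toNat_order hy0).symm⟩
    rw [hv', ENat.toNat_coe] at hv
    refine hc1 ((hΓ _).2 ⟨y * X ^ (c - 1 - v), hyA _, ?_⟩)
    rw [order_mul, order_X_pow, hv', ← Nat.cast_add]
    congr 1
    omega
  · rw [Submodule.mem_div_iff_forall_mul_mem]
    exact fun z _ => mem_of_one_mem A ω hω1 (hX _ (le_order_mul_left z hy))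

include hX hΓ hc0 hc1 hω1 hωinj in
theorem not_mem_values [IsLocalRing A] [IsNoetherianRing A] [Ring.KrullDimLE 1 A] :
    c - 1 ∉ values A ω := by
  rintro ⟨f, hf, hfo⟩
  have hcol := colon_top A hX Γ hΓ hc0 hc1 ω hω1 hωinj
  have hmem : (X : PowerSeries k) ^ (c - 1) ∈ ω / (⊤ : Submodule A (PowerSeries k)) := by
    rw [Submodule.mem_div_iff_forall_mul_mem]
    intro z _
    have hlow := Groth.L21.ValueSemigroup.exists_raise
      (f := X ^ (c - 1) * z) (g := f) (e := c - 1) (le_order_mul_left z (by rw [order_X_pow])) hfo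
    rw [show c - 1 + 1 = c by omega] at hlow
    have := ω.add_mem (mem_of_one_mem A ω hω1 (hX _ hlow))
      (ω.smul_of_tower_mem (coeff (c - 1) (X ^ (c - 1) * z) / coeff (c - 1) f) hf)
    rwa [PowerSeries.smul_eq_C_mul, sub_add_cancel] at this
  rw [hcol, mem_high, order_X_pow] at hmem
  have : c ≤ c - 1 := by exact_mod_cast hmem
  omega

include hX hΓ hc0 hc1 hω1 hωinj in
theorem values_colon (M : Submodule A (PowerSeries k)) (hM1 : (1 : PowerSeries k) ∈ M) (n : ℕ) :
    (∃ u : PowerSeries k, u.order = n ∧ ∀ m ∈ M, u * m ∈ ω) ↔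
      (c ≤ n ∨ ¬ ∃ m ∈ M, m.order = ((c - 1 - n : ℕ) : ℕ∞)) := by
  classical
  haveI := isLocalRing A hX
  haveI := isNoetherianRing A hX
  haveI := krullDimLE_one A hX
  haveI : Module.Finite A ↥ω := finite_submodule A hX ω
  haveI : Nontrivial ↥ω := ⟨⟨⟨1, hω1⟩, 0, fun h => one_ne_zero (congrArg Subtype.val h)⟩⟩
  have hhigh : ∀ f : PowerSeries k, (c : ℕ∞) ≤ f.order → ∀ m, f * m ∈ ω := fun f hf m =>
    mem_of_one_mem A ω hω1 (hX _ (le_order_mul_left m hf))
  have hcolon : ∀ u, u ∈ ω / M ↔ ∀ m ∈ M, u * m ∈ ω := fun u => Submodule.mem_div_iff_forall_mul_mem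
  by_cases hn : c ≤ n
  · exact iff_of_true ⟨X ^ n, order_X_pow n, fun m _ => hhigh _ (by rw [order_X_pow]; exact_mod_cast hn) m⟩
      (Or.inl hn)
  -- forward inclusion
  have hfwd : ∀ n, n < c → n ∈ values A (ω / M) → c - 1 - n ∉ values A M := by
    rintro n hn ⟨u, hu, huo⟩ ⟨m, hm, hmo⟩
    refine not_mem_values A hX Γ hΓ hc0 hc1 ω hω1 hωinj ⟨u * m, (hcolon u).1 hu m hm, ?_⟩
    rw [order_mul, huo, hmo, ← Nat.cast_add]
    congr 1
    omega
  -- counting
  let DM := (Finset.range c).filter (· ∈ values A M)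
  let DW := (Finset.range c).filter (· ∈ values A (ω / M))
  have hhighM : high A c ≤ M := fun f hf => mem_of_one_mem A M hM1 (hX f hf)
  have hcM : high A c ≤ ω / M := fun f hf => (hcolon f).2 fun m _ => hhigh f hf m
  haveI : Module.Finite A ↥(⊤ : Submodule A (PowerSeries k)) := finite_submodule A hX ⊤
  have key : lenQ (ω / M) (ω / (⊤ : Submodule A (PowerSeries k))) = lenQ ⊤ M :=
    TFDual.length_colon_quotient (birational A hX) (maximalIdeal_ne_bot A hX) ω hωinj
      (M := M) (N := ⊤) le_top hM1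
  rw [colon_top A hX Γ hΓ hc0 hc1 ω hω1 hωinj, length_quotient_high A hX _ hcM DW (fun n => by simp [DW])] at key
  have h2 : lenQ (⊤ : Submodule A (PowerSeries k)) (high A c) = (c : ℕ∞) := by
    rw [length_quotient_high A hX _ le_top (Finset.range c) (fun n => by
      simp only [Finset.mem_range, iff_self_and]
      exact fun _ => ⟨X ^ n, trivial, order_X_pow n⟩), Finset.card_range]
  have hcount : DM.card + DW.card = c := by
    rw [lenQ_add hhighM (le_top (a := M)), ← key,
      length_quotient_high A hX _ hhighM DM (fun n => by simp [DM])] at h2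
    exact_mod_cast h2
  let T := ((Finset.range c).filter (· ∉ values A M)).image (fun q => c - 1 - q)
  have hsub : DW ⊆ T := by
    intro q hq
    simp only [DW, Finset.mem_filter, Finset.mem_range] at hq
    simp only [T, Finset.mem_image, Finset.mem_filter, Finset.mem_range]
    exact ⟨c - 1 - q, ⟨by omega, hfwd q hq.1 hq.2⟩, by omega⟩
  have hcard : T.card ≤ DW.card := by
    refine le_trans Finset.card_image_le ?_
    have := Finset.card_filter_add_card_filter_not (s := Finset.range c) (· ∈ values A M)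
    rw [Finset.card_range] at this
    change DM.card + _ = c at this
    omega
  have hEq := Finset.eq_of_subset_of_card_le hsub hcard
  constructor
  · rintro ⟨u, huo, hu⟩
    exact Or.inr (hfwd n (by omega) ⟨u, (hcolon u).2 hu, huo⟩)
  · intro h
    have hnot : c - 1 - n ∉ values A M := h.resolve_left hn
    have : n ∈ T := by
      simp only [T, Finset.mem_image, Finset.mem_filter, Finset.mem_range]
      exact ⟨c - 1 - n, ⟨by omega, hnot⟩, by omega⟩
    rw [← hEq] at this
    obtain ⟨u, hu, huo⟩ := (Finset.mem_filter.1 this).2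
    exact ⟨u, huo, (hcolon u).1 hu⟩

end Canonical

end Groth.L21.ValueLattice
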