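import Groth.Agent.L21.TFDual.ValueLattice
import Groth.Agent.L03.Lattice
import Mathlib.RingTheory.Localization.BaseChange
import Mathlib.RingTheory.Localization.FractionRing
import Mathlib.LinearAlgebra.Dimension.Localization

/-! Rank one torsion-free modules as lattices in `k⟦t⟧`. -/

set_option autoImplicit false
universe u

open PowerSeries TensorProduct

namespace Groth.L21.ValueLattice

variable {k : Type u} [Field k]

theorem exists_injective_functional {A : Type u} [CommRing A] [IsDomain A] (M : Type u) [AddCommGroup M]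
    [Module A M] [Module.Finite A M] [NoZeroSMulDivisors A M]
    (hrk : Module.finrank (FractionRing A) (FractionRing A ⊗[A] M) = 1) :
    ∃ φ : M →ₗ[A] A, Function.Injective φ ∧ ∃ m, φ m ≠ 0 := by
  have hr : Module.finrank A M = 1 := by
    rw [← IsLocalizedModule.finrank_eq (nonZeroDivisors A)
      (TensorProduct.mk A (FractionRing A) M 1) le_rfl,
      ← IsLocalization.finrank_eq (FractionRing A) (nonZeroDivisors A) le_rfl, hrk]
  haveI : Module.IsTorsionFree A M := TFDual.isTorsionFree_of_noZeroSMulDivisors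
  obtain ⟨n, f, g, c, hc, hgf, -⟩ := Groth.L03.Lattice.exists_free_comp (R := A) M
  have hf : Function.Injective f := Groth.L03.Lattice.injective_of_comp f g hc hgf
  haveI : Nontrivial M := by
    by_contra h
    haveI := not_nontrivial_iff_subsingleton.1 h
    rw [Module.finrank_zero_of_subsingleton] at hr
    exact zero_ne_one hr
  obtain ⟨m₀, hm₀⟩ := exists_ne (0 : M)
  obtain ⟨j, hj⟩ : ∃ j, f m₀ j ≠ 0 := by
    by_contra h
    push Not at h
    exact hm₀ (hf ((funext h : f m₀ = 0).trans (map_zero f).symm))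
  refine ⟨(LinearMap.proj j).comp f, ?_, m₀, hj⟩
  rw [injective_iff_map_eq_zero]
  intro m hm
  have hdep : ¬ LinearIndependent A ![m, m₀] := fun h => by
    have := h.fintype_card_le_finrank
    rw [hr, Fintype.card_fin] at this
    omega
  rw [LinearIndependent.pair_iff] at hdep
  push Not at hdep
  obtain ⟨a, b, hab, hne⟩ := hdep
  have hb : b = 0 := by
    have := congrArg (fun x => f x j) hab
    simp only [map_add, map_smul, map_zero, Pi.add_apply, Pi.smul_apply, Pi.zero_apply] at this
    rw [show f m j = 0 from hm, smul_zero, zero_add, smul_eq_mul, mul_eq_zero] at this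
    exact this.resolve_right hj
  rw [hb, zero_smul, add_zero] at hab
  exact (smul_eq_zero.1 hab).resolve_left fun ha => hne ha hb

theorem finrank_eq_of_lenQ {R : Type u} [CommRing R] [Algebra k R] {V : Type u} [AddCommGroup V]
    [Module R V] [Module k V] [IsScalarTower k R V] (ε : R →ₐ[k] k) (hε : ∀ a, ε a ≠ 0 → IsUnit a)
    (Q : Submodule R V) {n : ℕ} (h : lenQ ⊤ Q = (n : ℕ∞)) :
    Module.finrank k (V ⧸ Q.restrictScalars k) = n := by
  have h1 : Module.length R (V ⧸ Q) = (n : ℕ∞) := by
    rw [← h, lenQ]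
    refine (Submodule.Quotient.equiv (Q.comap (⊤ : Submodule R V).subtype) Q Submodule.topEquiv ?_).length_eq.symm
    ext x
    simp [Submodule.mem_map]
  rw [ExtLattice.length_eq_length_field ε hε, ← (Submodule.Quotient.restrictScalarsEquiv k Q).length_eq] at h1
  haveI : Module.Finite k (V ⧸ Q.restrictScalars k) := by
    haveI := (isFiniteLength_iff_isNoetherian_isArtinian.1
      (Module.length_ne_top_iff.1 (by rw [h1]; exact ENat.coe_ne_top n))).1
    infer_instance
  rw [Module.length_eq_finrank] at h1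
  exact_mod_cast h1

variable (A : Subalgebra k (PowerSeries k))

/-- Scale a nonzero lattice so that it contains `1`. -/
theorem exists_normalize (I : Submodule A (PowerSeries k)) (hI : I ≠ ⊥) :
    ∃ N : Submodule A (PowerSeries k), (1 : PowerSeries k) ∈ N ∧ Nonempty (↥I ≃ₗ[A] ↥N) := by
  classical
  obtain ⟨m, hm, hm0⟩ := Submodule.exists_mem_ne_zero_of_ne_bot hI
  have hex : ∃ n : ℕ, n ∈ values A I := ⟨_, m, hm, (coe_toNat_order hm0).symm⟩
  set v := Nat.find hex
  obtain ⟨f, hfI, hfo⟩ := Nat.find_spec hex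
  have hf0 : f ≠ 0 := by rintro rfl; rw [order_zero] at hfo; exact ENat.top_ne_coe _ hfo
  let μ : PowerSeries k →ₗ[A] PowerSeries k := LinearMap.mulLeft A f
  have hμ : Function.Injective μ := fun a b h => mul_left_cancel₀ hf0 h
  refine ⟨I.comap μ, by change f * 1 ∈ I; rwa [mul_one], ?_⟩
  have hle : I ≤ LinearMap.range μ := fun g hg => by
    have hu : IsUnit (divXPowOrder f) :=
      isUnit_iff_constantCoeff.2
        (isUnit_iff_ne_zero.2 fun h => hf0 (constantCoeff_divXPowOrder_eq_zero_iff.1 h))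
    have hfv : f.order.toNat = v := by rw [hfo, ENat.toNat_coe]
    have hg' : (v : ℕ∞) ≤ g.order := by
      by_cases hg0 : g = 0
      · simp [hg0]
      rw [← coe_toNat_order hg0]
      exact_mod_cast Nat.find_min' hex ⟨g, hg, (coe_toNat_order hg0).symm⟩
    obtain ⟨q, hq⟩ : (X : PowerSeries k) ^ v ∣ g :=
      X_pow_dvd_iff.2 (Groth.L21.ValueSemigroup.le_order_iff.1 hg')
    obtain ⟨w, hw⟩ := hu.exists_right_inv
    refine ⟨w * q, ?_⟩
    change f * (w * q) = g
    conv_lhs => rw [← X_pow_order_mul_divXPowOrder (f := f), hfv]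
    rw [hq, show X ^ v * divXPowOrder f * (w * q) = X ^ v * (divXPowOrder f * w) * q by ring, hw, mul_one]
  exact ⟨((Submodule.equivMapOfInjective μ hμ (I.comap μ)).trans
    (LinearEquiv.ofEq _ _ (Submodule.map_comap_eq_self hle))).symm⟩

/-- The shifted lattice `t^a N`. -/
theorem exists_colength_eq (Γ : Set ℕ) (hΓ : ∀ n : ℕ, n ∈ Γ ↔ ∃ f ∈ A, PowerSeries.order f = n)
    (hmono : ∀ f : PowerSeries k, f ∈ A ↔ ∀ n : ℕ, PowerSeries.coeff n f ≠ 0 → n ∈ Γ)
    (hfin : Γᶜ.Finite)
    (hA : Module.Finite A (PowerSeries k))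
    (hcl : ∀ f : PowerSeries k, (∀ n : ℕ, ∃ g ∈ A, (n : ℕ∞) ≤ PowerSeries.order (f - g)) → f ∈ A)
    (N : Submodule A (PowerSeries k)) (hN : (1 : PowerSeries k) ∈ N) :
    ∃ M' : Submodule A (PowerSeries k), high A (2 * Γᶜ.ncard) ≤ M' ∧ Nonempty (↥N ≃ₗ[A] ↥M') ∧
      Module.finrank k (PowerSeries k ⧸ M'.restrictScalars k) = Γᶜ.ncard := by
  classical
  set δ := Γᶜ.ncard with hδ
  have hΓadd : ∀ a ∈ Γ, ∀ b ∈ Γ, a + b ∈ Γ := fun a ha b hb => by
    obtain ⟨f, hf, hfo⟩ := (hΓ a).1 ha
    obtain ⟨g, hg, hgo⟩ := (hΓ b).1 hb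
    exact (hΓ _).2 ⟨f * g, A.mul_mem hf hg, by rw [order_mul, hfo, hgo, Nat.cast_add]⟩
  -- gaps are `< 2δ`
  have hgap : ∀ n, 2 * δ ≤ n → n ∈ Γ := by
    intro n hn
    by_contra hnΓ
    let G := (Finset.range (n + 1)).filter (· ∉ Γ)
    have hG : G.card ≤ δ := by
      rw [hδ, Set.ncard_eq_toFinset_card _ hfin]
      exact Finset.card_le_card fun i hi => hfin.mem_toFinset.2 (Finset.mem_filter.1 hi).2
    have h1 : Finset.range (n + 1) ⊆ G ∪ G.image (fun i => n - i) := by
      intro i hi
      rw [Finset.mem_range] at hi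
      by_cases hiΓ : i ∈ Γ
      · refine Finset.mem_union_right _ (Finset.mem_image.2 ⟨n - i, ?_, by omega⟩)
        refine Finset.mem_filter.2 ⟨Finset.mem_range.2 (by omega), fun h => hnΓ ?_⟩
        have := hΓadd _ hiΓ _ h
        rwa [show i + (n - i) = n by omega] at this
      · exact Finset.mem_union_left _ (Finset.mem_filter.2 ⟨Finset.mem_range.2 hi, hiΓ⟩)
    have h2 := le_trans (Finset.card_le_card h1) (Finset.card_union_le _ _)
    have h3 : (G.image fun i => n - i).card ≤ G.card := Finset.card_image_le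
    rw [Finset.card_range] at h2
    omega
  have hX : ∀ f : PowerSeries k, ((2 * δ : ℕ) : ℕ∞) ≤ f.order → f ∈ A := fun f hf =>
    (hmono f).2 fun n hn => hgap n (by
      by_contra h
      exact hn (Groth.L21.ValueSemigroup.le_order_iff.1 hf n (not_le.1 h)))
  haveI := isLocalRing A hX
  -- gaps of `N`
  set V := values A N
  have hΓV : ∀ n ∈ Γ, n ∈ V := fun n hn => by
    obtain ⟨f, hf, hfo⟩ := (hΓ n).1 hn
    exact ⟨f, mem_of_one_mem A N hN hf, hfo⟩
  let GN := hfin.toFinset.filter (· ∉ V)
  set e := GN.card with he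
  have heδ : e ≤ δ := by
    rw [he, hδ, Set.ncard_eq_toFinset_card _ hfin]
    exact Finset.card_filter_le _ _
  have hVhigh : ∀ n, δ + e ≤ n → n ∈ V := by
    intro n hn
    by_contra hnV
    let S := (Finset.range (n + 1)).filter (· ∈ Γ)
    have h1 : S.image (fun g => n - g) ⊆ GN := by
      intro i hi
      obtain ⟨g, hg, rfl⟩ := Finset.mem_image.1 hi
      obtain ⟨hgn, hgΓ⟩ := Finset.mem_filter.1 hg
      rw [Finset.mem_range] at hgn
      have hnot : n - g ∉ V := by
        rintro ⟨f, hf, hfo⟩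
        obtain ⟨a, ha, hao⟩ := (hΓ g).1 hgΓ
        refine hnV ⟨a * f, N.smul_mem (⟨a, ha⟩ : A) hf, ?_⟩
        rw [order_mul, hao, hfo, ← Nat.cast_add]
        congr 1
        omega
      exact Finset.mem_filter.2 ⟨hfin.mem_toFinset.2 fun h => hnot (hΓV _ h), hnot⟩
    have h2 : n + 1 ≤ S.card + δ := by
      have := Finset.card_filter_add_card_filter_not (s := Finset.range (n + 1)) (· ∈ Γ)
      rw [Finset.card_range] at this
      have h3 : ((Finset.range (n + 1)).filter (· ∉ Γ)).card ≤ δ := by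
        rw [hδ, Set.ncard_eq_toFinset_card _ hfin]
        exact Finset.card_le_card fun i hi => hfin.mem_toFinset.2 (Finset.mem_filter.1 hi).2
      change S.card + _ = n + 1 at this
      omega
    have h4 := Finset.card_le_card h1
    rw [Finset.card_image_of_injOn (fun a ha b hb hab => by
      have h5 := Finset.mem_range.1 (Finset.mem_filter.1 ha).1
      have h6 := Finset.mem_range.1 (Finset.mem_filter.1 hb).1
      omega)] at h4
    omega
  have hNhigh : ∀ f : PowerSeries k, ((δ + e : ℕ) : ℕ∞) ≤ f.order → f ∈ N := fun f hf =>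
    Groth.L21.ValueSemigroup.mem_of_orders A hA hcl N (δ + e) (fun n hn => hVhigh n hn) f hf
  -- shift
  set a := δ - e with ha
  let μ : PowerSeries k →ₗ[A] PowerSeries k := LinearMap.mulLeft A (X ^ a)
  have hμ : Function.Injective μ := fun x y h => mul_left_cancel₀ (pow_ne_zero a X_ne_zero) h
  set M' := N.map μ with hM'
  have hhigh : high A (2 * δ) ≤ M' := by
    intro f hf
    rw [mem_high] at hf
    obtain ⟨q, rfl⟩ : (X : PowerSeries k) ^ (2 * δ) ∣ f :=
      X_pow_dvd_iff.2 (Groth.L21.ValueSemigroup.le_order_iff.1 hf)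
    refine ⟨X ^ (δ + e) * q, hNhigh _ (le_order_mul_left q (by rw [order_X_pow])), ?_⟩
    change X ^ a * (X ^ (δ + e) * q) = _
    rw [← mul_assoc, ← pow_add, show a + (δ + e) = 2 * δ by omega]
  refine ⟨M', hhigh, ⟨Submodule.equivMapOfInjective μ hμ N⟩, ?_⟩
  -- values of `M'`
  let D := ((Finset.range (δ + e)).filter (· ∈ V)).image (· + a)
  have hD : ∀ n, n ∈ D ↔ n < 2 * δ ∧ n ∈ values A M' := by
    intro n
    simp only [D, Finset.mem_image, Finset.mem_filter, Finset.mem_range]
    constructor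
    · rintro ⟨i, ⟨hi, f, hf, hfo⟩, rfl⟩
      refine ⟨by omega, X ^ a * f, ⟨f, hf, rfl⟩, ?_⟩
      rw [order_mul, order_X_pow, hfo, ← Nat.cast_add, add_comm]
    · rintro ⟨hn, g, ⟨f, hf, rfl⟩, hgo⟩
      change (X ^ a * f).order = _ at hgo
      rw [order_mul, order_X_pow] at hgo
      have hf0 : f.order ≠ ⊤ := fun h => by rw [h, add_top] at hgo; exact ENat.top_ne_coe _ hgo
      obtain ⟨i, hi⟩ := ENat.ne_top_iff_exists.1 hf0
      rw [← hi, ← Nat.cast_add, Nat.cast_inj] at hgo
      exact ⟨i, ⟨by omega, f, hf, hi.symm⟩, by omega⟩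
  have hcard : D.card = δ := by
    rw [Finset.card_image_of_injective _ (fun x y h => by simpa using h)]
    have h1 : GN = (Finset.range (δ + e)).filter (· ∉ V) := by
      ext i
      simp only [GN, Finset.mem_filter, Set.Finite.mem_toFinset, Finset.mem_range]
      exact ⟨fun h => ⟨by by_contra h'; exact h.2 (hVhigh i (not_lt.1 h')), h.2⟩,
        fun h => ⟨fun h' => h.2 (hΓV i h'), h.2⟩⟩
    have := Finset.card_filter_add_card_filter_not (s := Finset.range (δ + e)) (· ∈ V)
    rw [Finset.card_range, ← h1] at this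
    omega
  refine finrank_eq_of_lenQ (eps A) (fun x hx => isUnit_of_constantCoeff A hX x hx) M' ?_
  have hall : lenQ (⊤ : Submodule A (PowerSeries k)) (high A (2 * δ)) = ((2 * δ : ℕ) : ℕ∞) := by
    rw [length_quotient_high A hX _ le_top (Finset.range (2 * δ)) (fun n => by
      simp only [Finset.mem_range, iff_self_and]
      exact fun _ => ⟨X ^ n, trivial, order_X_pow n⟩), Finset.card_range]
  rw [lenQ_add hhigh (le_top (a := M')), length_quotient_high A hX M' hhigh D hD, hcard] at hall
  generalize lenQ (⊤ : Submodule A (PowerSeries k)) M' = x at hall ⊢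
  induction x using ENat.recTopCoe with
  | top => rw [add_top] at hall; exact absurd hall.symm (ENat.coe_ne_top _)
  | coe x =>
    rw [← Nat.cast_add, Nat.cast_inj] at hall
    rw [Nat.cast_inj]
    omega

end Groth.L21.ValueLattice
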