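import Groth.Agent.L21.TFDual.Frac
import Groth.Agent.L21.ExtLattice.Congr
import Mathlib.Algebra.Algebra.Operations

/-! `Ext¹(M, M)` for an overring `M` of a one-dimensional Gorenstein local domain. -/

set_option autoImplicit false
universe u

open CategoryTheory Abelian IsLocalRing

namespace Groth.L21.TFDual

variable {A : Type u} [CommRing A] [IsDomain A] [IsNoetherianRing A]
  {K : Type u} [Field K] [Algebra A K] [IsFractionRing A K]

theorem exists_mul_eq (z : K) :
    ∃ a c : A, algebraMap A K c ≠ 0 ∧ algebraMap A K c * z = algebraMap A K a := by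
  obtain ⟨a, c, hc, rfl⟩ := IsFractionRing.div_surjective A z
  have hc' : algebraMap A K c ≠ 0 := IsFractionRing.to_map_ne_zero_of_mem_nonZeroDivisors hc
  exact ⟨a, c, hc', by field_simp⟩

theorem nonempty_ext_overring [IsLocalRing A] [LocCoh.IsGorensteinLocalRing A]
    (hdim : ringKrullDim A = 1) (M : Subalgebra A K) [Module.Finite A ↥M] :
    Nonempty (Ext (ModuleCat.of A ↥M) (ModuleCat.of A ↥M) 1 ≃+
      (↥((1 : Submodule A K) / Subalgebra.toSubmodule M) →ₗ[A]
        (A ⧸ Submodule.comap (Algebra.linearMap A K) ((1 : Submodule A K) / Subalgebra.toSubmodule M)))) := by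
  haveI := krullDimLE_one hdim
  have hW : Vanishes A A := vanishes_self
  have hEnd : Function.Surjective (LinearMap.lsmul A A) := fun φ =>
    ⟨φ 1, LinearMap.ext_ring (mul_one (φ 1))⟩
  haveI : Module.IsTorsionFree A ↥M := isTorsionFree_submodule (Subalgebra.toSubmodule M)
  haveI : Module.IsTorsionFree A (↥M →ₗ[A] A) := isTorsionFree_hom
  haveI : Module.Finite A (↥M →ₗ[A] A) := by
    obtain ⟨r, f, hf⟩ := Module.Finite.exists_fin' A ↥M
    exact Module.Finite.of_injective (LinearMap.lcomp A A f)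
      (fun φ ψ h => LinearMap.ext fun x => by obtain ⟨y, rfl⟩ := hf x; exact LinearMap.congr_fun h y)
  obtain ⟨e⟩ := nonempty_dualExtEquiv hW (↥M →ₗ[A] A) 1 ↥M
  let ev : ↥M ≃ₗ[A] ((↥M →ₗ[A] A) →ₗ[A] A) := LinearEquiv.ofBijective _ (eval_bijective hW hEnd ↥M)
  set J : Submodule A K := (1 : Submodule A K) / Subalgebra.toSubmodule M with hJ
  have hmem : ∀ y : K, y ∈ J ↔ ∀ m ∈ M, ∃ a, algebraMap A K a = y * m := fun y => by
    rw [hJ, Submodule.mem_div_iff_forall_mul_mem]
    simp [Submodule.mem_one]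
  have hinj := IsFractionRing.injective A K
  -- the dual of `M`
  choose val hval using fun (y : ↥J) (m : ↥M) => (hmem y).1 y.2 m m.2
  let Φ : ↥J →ₗ[A] (↥M →ₗ[A] A) :=
    { toFun := fun y =>
        { toFun := val y
          map_add' := fun m n => hinj (by rw [map_add, hval, hval, hval]; exact mul_add _ _ _)
          map_smul' := fun c m => hinj (by
            rw [RingHom.id_apply, smul_eq_mul, map_mul, hval, hval, Subalgebra.coe_smul, Algebra.smul_def]
            ring) }
      map_add' := fun y z => LinearMap.ext fun m => hinj (by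
        simp only [LinearMap.coe_mk, AddHom.coe_mk, LinearMap.add_apply, map_add]
        rw [hval, hval, hval]; exact add_mul _ _ _)
      map_smul' := fun c y => LinearMap.ext fun m => hinj (by
        simp only [LinearMap.coe_mk, AddHom.coe_mk, LinearMap.smul_apply, RingHom.id_apply, smul_eq_mul,
          map_mul]
        rw [hval, hval, Submodule.coe_smul, Algebra.smul_def]; ring) }
  have hΦ : ∀ y m, algebraMap A K (Φ y m) = (y : K) * m := hval
  have hΦbij : Function.Bijective Φ := by
    refine ⟨fun y z h => Subtype.ext ?_, fun φ => ?_⟩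
    · have h1 := congrArg (fun ψ => algebraMap A K (ψ (1 : ↥M))) h
      simpa [hΦ] using h1
    · have hφ : ∀ m : ↥M, algebraMap A K (φ m) = algebraMap A K (φ 1) * m := by
        intro m
        obtain ⟨a, c, hc, h⟩ := exists_mul_eq (A := A) (m : K)
        refine mul_left_cancel₀ hc ?_
        have h2 : c • m = a • (1 : ↥M) := Subtype.ext (by
          rw [Subalgebra.coe_smul, Subalgebra.coe_smul, Algebra.smul_def, Algebra.smul_def,
            Subalgebra.coe_one, mul_one, h])
        rw [← map_mul, ← smul_eq_mul, ← map_smul, h2, map_smul, smul_eq_mul, map_mul,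
          mul_left_comm, h, mul_comm]
      refine ⟨⟨algebraMap A K (φ 1), (hmem _).2 fun m hm => ⟨φ ⟨m, hm⟩, hφ _⟩⟩,
        LinearMap.ext fun m => hinj ?_⟩
      rw [hΦ]; exact (hφ m).symm
  let dualEquiv : ↥J ≃ₗ[A] (↥M →ₗ[A] A) := LinearEquiv.ofBijective Φ hΦbij
  haveI : Module.IsTorsionFree A ↥J := isTorsionFree_submodule J
  haveI : Module.Finite A ↥J := Module.Finite.equiv dualEquiv.symm
  -- `0 → J → A → A/I → 0`
  set I := Submodule.comap (Algebra.linearMap A K) J with hI
  let j : ↥J →ₗ[A] A := (LinearMap.applyₗ (1 : ↥M)).comp Φ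
  have hj : ∀ y, algebraMap A K (j y) = y := fun y => by
    change algebraMap A K (Φ y 1) = _
    rw [hΦ, Subalgebra.coe_one, mul_one]
  have hrange : LinearMap.range j = I := by
    ext a
    constructor
    · rintro ⟨y, rfl⟩
      change algebraMap A K (j y) ∈ J
      rw [hj]; exact y.2
    · intro ha
      exact ⟨⟨_, ha⟩, hinj (hj _)⟩
  let S := ShortComplex.mk (ModuleCat.ofHom j) (ModuleCat.ofHom I.mkQ)
    (ModuleCat.hom_ext (LinearMap.ext fun y => (Submodule.Quotient.mk_eq_zero _).2 (hrange.le ⟨y, rfl⟩)))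
  have hS : S.ShortExact :=
    { exact := by
        rw [ShortComplex.moduleCat_exact_iff]
        intro a ha
        exact hrange.ge ((Submodule.Quotient.mk_eq_zero _).1 ha)
      mono_f := (ModuleCat.mono_iff_injective _).2 fun y z h => Subtype.ext (by
        rw [← hj y, ← hj z]; exact congrArg _ h)
      epi_g := (ModuleCat.epi_iff_surjective _).2 (Submodule.mkQ_surjective _) }
  haveI : Subsingleton (Ext (ModuleCat.of A ↥J) S.X₂ 1) := hW ↥J 0
  obtain ⟨δ, hδ, hδ'⟩ := exists_ext_one_of_injective S hS (ModuleCat.of A ↥J)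
  have hδinj : Function.Injective δ := by
    rw [injective_iff_map_eq_zero]
    intro φ hφ
    obtain ⟨g₀, rfl⟩ := (hδ' φ).1 hφ
    let g : ↥J →ₗ[A] A := g₀
    refine LinearMap.ext fun y => (Submodule.Quotient.mk_eq_zero I).2 ?_
    change algebraMap A K (g y) ∈ J
    refine (hmem _).2 fun m hm => ?_
    have hmy : m * (y : K) ∈ J := (hmem _).2 fun m' hm' => by
      obtain ⟨b, hb⟩ := (hmem y).1 y.2 (m * m') (M.mul_mem hm hm')
      exact ⟨b, hb.trans (by ring)⟩
    refine ⟨g ⟨_, hmy⟩, ?_⟩
    obtain ⟨a, c, hc, h⟩ := exists_mul_eq (A := A) m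
    refine mul_left_cancel₀ hc ?_
    have h2 : c • (⟨m * (y : K), hmy⟩ : ↥J) = a • y := Subtype.ext (by
      rw [Submodule.coe_smul, Submodule.coe_smul, Algebra.smul_def, Algebra.smul_def, ← mul_assoc, h])
    rw [← map_mul, ← smul_eq_mul, ← map_smul, h2, map_smul, smul_eq_mul, map_mul, ← h]
    ring
  exact ⟨((((Groth.L21.ExtLattice.extCongr (LinearEquiv.refl A ↥M) ev 1).toAddEquiv.trans e).trans
    (Groth.L21.ExtLattice.extCongr dualEquiv.symm dualEquiv.symm 1).toAddEquiv)).trans
    (LinearEquiv.ofBijective δ ⟨hδinj, hδ⟩).symm.toAddEquiv⟩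

end Groth.L21.TFDual
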